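import Groth.Agent.L21.Sep.CompleteSeries
import Groth.Agent.L21.Duality.Separating
import Groth.Agent.L21.Disc.SimplyConn
import Groth.Agent.L03.GeomRegular
import Groth.Agent.L01.NagataGlobal
import Groth.Agent.L16.Connected.Fibre
import Groth.Agent.L21.RR.Sections

/-!
A complete linear series on a smooth proper curve is separable.
-/

set_option autoImplicit false
set_option backward.isDefEq.respectTransparency false
set_option linter.style.haveILetI false
universe u

open CategoryTheory CategoryTheory.Limits AlgebraicGeometry TopologicalSpace Opposite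
open scoped TensorProduct nonZeroDivisors

noncomputable section

namespace Groth.L21.SepSeries

open Groth.L21.RR (h e0 e0_smul finite_HH')
open Groth.L21.Duality (gη γη gη_smul gη_rs γη_ro gη_injective generic_mem exists_section_of_local)
open Groth.L18.Frame (rs ro IsFrame)

attribute [local instance] Curv2.stalkAlgebra

variable (k : Type u) [Field k] {X : Scheme.{u}} [IsIntegral X] [X.Over (Spec (CommRingCat.of k))]

/-- The constants among the sections. -/
abbrev cs (W : X.Opens) : k →+* Γ(X, W) :=
  ((X ↘ Spec (CommRingCat.of k)).appLE ⊤ W (by simp)).hom.comp (Scheme.ΓSpecIso (CommRingCat.of k)).inv.hom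

theorem γη_cs {W : X.Opens} (hW : genericPoint X ∈ W) (c : k) :
    γη hW (cs k W c) = algebraMap k X.functionField c := by
  show X.presheaf.germ W _ hW ((X ↘ Spec (CommRingCat.of k)).appLE ⊤ W _ ((Scheme.ΓSpecIso (CommRingCat.of k)).inv c)) =
    X.presheaf.germ ⊤ (genericPoint X) trivial ((X ↘ Spec (CommRingCat.of k)).appTop ((Scheme.ΓSpecIso (CommRingCat.of k)).inv c))
  exact TopCat.Presheaf.germ_res_apply X.presheaf _ _ hW _

/-- The algebra structure on sections. -/
abbrev secAlg (W : X.Opens) : Algebra k Γ(X, W) := (cs k W).toAlgebra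

/-- Sections of the function ring of an open, inside the function field. -/
def secSub (W : X.Opens) (hW : genericPoint X ∈ W) : Subalgebra k X.functionField :=
  { (γη hW).range.toSubsemiring with
    algebraMap_mem' := fun c => ⟨cs k W c, γη_cs k hW c⟩ }

theorem mem_secSub {W : X.Opens} {hW : genericPoint X ∈ W} {x : X.functionField} :
    x ∈ secSub k W hW ↔ ∃ a, γη hW a = x := Iff.rfl

/-- Sections over an open as a subalgebra of the function field. -/
def secEquiv (W : X.Opens) (hW : genericPoint X ∈ W) :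
    letI := secAlg k W
    Γ(X, W) ≃ₐ[k] secSub k W hW :=
  letI := secAlg k W
  AlgEquiv.ofBijective
    ({ toFun := fun a => ⟨γη hW a, a, rfl⟩
       map_one' := Subtype.ext (map_one _)
       map_mul' := fun a b => Subtype.ext (map_mul _ a b)
       map_zero' := Subtype.ext (map_zero _)
       map_add' := fun a b => Subtype.ext (map_add _ a b)
       commutes' := fun c => Subtype.ext (γη_cs k hW c) } : Γ(X, W) →ₐ[k] secSub k W hW)
    ⟨fun a b hab => germ_injective_of_isIntegral X (genericPoint X) hW (congrArg Subtype.val hab),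
      fun ⟨_, a, ha⟩ => ⟨a, Subtype.ext ha⟩⟩

variable [IsProper (X ↘ Spec (CommRingCat.of k))] [Smooth (X ↘ Spec (CommRingCat.of k))]

/-- Only constants are algebraic in the function field. -/
theorem mem_range_of_isAlgebraic (hd : topologicalKrullDim X = 1) (h0 : h k 0 (Coh.structureModule X) = 1)
    {x : X.functionField} (hx : IsAlgebraic k x) : x ∈ (algebraMap k X.functionField).range := by
  have hnorm : ∀ y : X, IsDomain (X.presheaf.stalk y) ∧ IsIntegrallyClosed (X.presheaf.stalk y) := fun y =>
    ⟨Groth.L21.Smooth.isDomain_stalk (X ↘ Spec (CommRingCat.of k)) y,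
      Groth.L21.Smooth.isIntegrallyClosed_stalk (X ↘ Spec (CommRingCat.of k)) y⟩
  haveI := Groth.L21.RR.isNoetherian_of_proper (X := X) k
  obtain ⟨s, hs⟩ := exists_section_of_local (Groth.L18.Ample.isInvertible_structureModule X)
    (W := ⊤) (Opens.mem_top (genericPoint X))
    ((show X.presheaf.stalk (genericPoint X) from x) • Groth.L21.RR.one X (genericPoint X)) fun y _ => by
      obtain ⟨W, hW, hyW, -⟩ := exists_isAffineOpen_mem_and_subset (x := y) (U := ⊤) trivial
      haveI : Nonempty W := ⟨⟨y, hyW⟩⟩
      haveI := functionField_isFractionRing_of_isAffineOpen X W hW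
      haveI := Groth.L21.isDedekindDomain_of_normal hd.le hnorm hW
      letI := secAlg k W
      haveI : IsScalarTower k Γ(X, W) X.functionField :=
        IsScalarTower.of_algebraMap_eq fun c => (γη_cs k (generic_mem hyW) c).symm
      obtain ⟨a, ha⟩ := IsIntegrallyClosed.isIntegral_iff.1 ((hx.isIntegral).tower_top (A := Γ(X, W)))
      refine ⟨W, hyW, a • rs (Coh.structureModule X) le_top (Groth.L21.RR.oneSec X), ?_⟩
      rw [gη_smul, gη_rs]
      exact congrArg (· • Groth.L21.RR.one X (genericPoint X)) ha
  haveI := finite_HH' k (Groth.L16.CohClosedPush.isCoh_structure (X := X)) 0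
  let z := (e0 (Coh.structureModule X)).symm (Groth.L21.RR.oneSec X)
  have hz : z ≠ 0 := fun h => by
    have h1 : Groth.L21.RR.oneSec X = 0 := (e0 _).symm.injective (h.trans (map_zero _).symm)
    haveI : Nonempty ((⊤ : X.Opens) : Scheme) := ⟨⟨genericPoint X, trivial⟩⟩
    exact one_ne_zero (α := Γ(X, ⊤)) h1
  obtain ⟨c, hc⟩ := (finrank_eq_one_iff_of_nonzero' z hz).1 h0 ((e0 (Coh.structureModule X)).symm s)
  refine ⟨c, ?_⟩
  have h2 := congrArg (e0 (Coh.structureModule X)) hc
  rw [e0_smul, AddEquiv.apply_symm_apply, AddEquiv.apply_symm_apply] at h2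
  refine (Groth.L21.RR.bijective_smul_one (genericPoint X)).1 (Eq.trans ?_ hs)
  rw [← h2, gη_smul]
  rfl

theorem geometricallyIntegral (h0 : h k 0 (Coh.structureModule X) = 1) :
    GeometricallyIntegral (X ↘ Spec (CommRingCat.of k)) := by
  haveI := Groth.L21.RR.isNoetherian_of_proper (X := X) k
  haveI := finite_HH' k (Groth.L16.CohClosedPush.isCoh_structure (X := X)) 0
  set p := X ↘ Spec (CommRingCat.of k)
  haveI : GeometricallyConnected p := by
    refine Groth.L16.Connected.geometricallyConnected p fun U => ?_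
    rcases isEmpty_or_nonempty (U : Scheme.{u}) with hU | hU
    · have hU' : U = ⊥ := by
        ext y
        exact ⟨fun hy => (hU.false ⟨y, hy⟩).elim, fun hy => hy.elim⟩
      subst hU'
      haveI : Subsingleton Γ(X, p ⁻¹ᵁ ⊥) := inferInstanceAs (Subsingleton Γ(X, ⊥))
      rw [ConcreteCategory.isIso_iff_bijective]
      exact ⟨fun a b _ => Subsingleton.elim _ _, fun b => ⟨0, Subsingleton.elim _ _⟩⟩
    · have hU' : U = ⊤ := by
        obtain ⟨⟨y, hy⟩⟩ := hU
        ext z
        simp only [Opens.coe_top, Set.mem_univ, iff_true]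
        obtain rfl : z = y := Subsingleton.elim (α := PrimeSpectrum k) _ _
        exact hy
      subst hU'
      rw [ConcreteCategory.isIso_iff_bijective]
      constructor
      · intro a b hab
        obtain ⟨a, rfl⟩ := (Scheme.ΓSpecIso (CommRingCat.of k)).symm.commRingCatIsoToRingEquiv.surjective a
        obtain ⟨b, rfl⟩ := (Scheme.ΓSpecIso (CommRingCat.of k)).symm.commRingCatIsoToRingEquiv.surjective b
        refine congrArg _ ((algebraMap k X.functionField).injective ?_)
        exact congrArg (γη (Opens.mem_top (genericPoint X))) hab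
      · intro s
        let z := (e0 (Coh.structureModule X)).symm (Groth.L21.RR.oneSec X)
        have hz : z ≠ 0 := fun h => by
          have h1 : Groth.L21.RR.oneSec X = 0 := (e0 _).symm.injective (h.trans (map_zero _).symm)
          haveI : Nonempty ((⊤ : X.Opens) : Scheme) := ⟨⟨genericPoint X, trivial⟩⟩
          exact one_ne_zero (α := Γ(X, ⊤)) h1
        obtain ⟨c, hc⟩ := (finrank_eq_one_iff_of_nonzero' z hz).1 h0
          ((e0 (Coh.structureModule X)).symm (show Γ(Coh.structureModule X, ⊤) from s))
        refine ⟨(Scheme.ΓSpecIso (CommRingCat.of k)).inv c, ?_⟩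
        have h2 := congrArg (e0 (Coh.structureModule X)) hc
        rw [e0_smul, AddEquiv.apply_symm_apply, AddEquiv.apply_symm_apply] at h2
        exact (mul_one (M := Γ(X, ⊤)) _).symm.trans h2
  exact Groth.L21.Disc.geometricallyIntegral_of_smooth p

/-- Base change of an affine chart to the algebraic closure is a normal domain. -/
theorem isDomain_tensor (h0 : h k 0 (Coh.structureModule X) = 1) {W : X.Opens} (hW : IsAffineOpen W)
    (hη : genericPoint X ∈ W) :
    letI := secAlg k W
    IsDomain (AlgebraicClosure k ⊗[k] Γ(X, W)) ∧ IsIntegrallyClosed (AlgebraicClosure k ⊗[k] Γ(X, W)) := by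
  letI := secAlg k W
  haveI := geometricallyIntegral k h0
  set p := X ↘ Spec (CommRingCat.of k)
  let L := AlgebraicClosure k
  let φ := Spec.map (CommRingCat.ofHom (algebraMap k L))
  haveI : IsIntegral (pullback p φ) :=
    GeometricallyIntegral.geometrically_isIntegral _ _ _ (IsPullback.of_hasPullback p φ)
  have hA : Spec.map (CommRingCat.ofHom (algebraMap k Γ(X, W))) = hW.fromSpec ≫ p := by
    have h4 := (isAffineOpen_top (Spec (CommRingCat.of k))).SpecMap_appLE_fromSpec p hW (by simp)
    rw [← h4, IsAffineOpen.fromSpec_top]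
    rw [RingHom.algebraMap_toAlgebra]
    show Spec.map ((Scheme.ΓSpecIso (CommRingCat.of k)).inv ≫ p.appLE ⊤ W _) = _
    rw [Spec.map_comp]
    congr 1
    rw [Scheme.isoSpec_Spec_inv]
  haveI : Nonempty W := ⟨⟨_, hη⟩⟩
  haveI : Nontrivial (L ⊗[k] Γ(X, W)) :=
    (Algebra.TensorProduct.includeRight_injective (R := k) (A := L) (B := Γ(X, W))
      (algebraMap k L).injective).nontrivial
  let j : pullback (Spec.map (CommRingCat.ofHom (algebraMap k Γ(X, W)))) φ ⟶ pullback p φ :=
    pullback.map _ _ _ _ hW.fromSpec (𝟙 _) (𝟙 _) (by rw [Category.comp_id, hA]) (by simp)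
  haveI : IsOpenImmersion j := inferInstanceAs (IsOpenImmersion (pullback.map _ _ _ _ _ _ _ _ _))
  let e := pullbackSymmetry _ _ ≪≫ pullbackSpecIso k L Γ(X, W)
  haveI : Nonempty ↥(pullback (Spec.map (CommRingCat.ofHom (algebraMap k Γ(X, W)))) φ : Scheme.{u}) :=
    ⟨e.inv (Classical.arbitrary (PrimeSpectrum (L ⊗[k] Γ(X, W))))⟩
  haveI : IsIntegral (pullback (Spec.map (CommRingCat.ofHom (algebraMap k Γ(X, W)))) φ) :=
    isIntegral_of_isOpenImmersion j
  haveI : IsIntegral (Spec (CommRingCat.of (L ⊗[k] Γ(X, W)))) := isIntegral_of_isOpenImmersion e.inv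
  haveI hdom : IsDomain (L ⊗[k] Γ(X, W)) :=
    ((affine_isIntegral_iff (CommRingCat.of (L ⊗[k] Γ(X, W)))).1 ‹_› : IsDomain (CommRingCat.of (L ⊗[k] Γ(X, W))))
  refine ⟨hdom, ?_⟩
  haveI : Algebra.Smooth k Γ(X, W) :=
    (RingHom.Smooth.respectsIso.2 _ (Scheme.ΓSpecIso (CommRingCat.of k)).symm.commRingCatIsoToRingEquiv
      (HasRingHomProperty.appLE @Smooth p inferInstance ⟨⊤, isAffineOpen_top _⟩ ⟨W, hW⟩ (by simp)) : _)
  haveI : IsRegularRing (L ⊗[k] Γ(X, W)) := Groth.L03.GeomRegular.isRegularRing_of_smooth L _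
  exact Groth.L01.NagataCriteria.isIntegrallyClosed_of_isRegularRing _

end Groth.L21.SepSeries
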