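import Groth.Agent.L21.Sep.CurveSeries
import Groth.Agent.L21.RR.PointDrop
import Groth.Agent.L21.RR.IdealTwist
import Groth.Agent.L21.Duality.NotHyperelliptic
import Groth.Agent.L21.Duality.Special
import Groth.Agent.L21.Smooth.SepPoints
import Mathlib.RingTheory.Unramified.Locus
import Mathlib.RingTheory.Flat.TorsionFree

/-!
Closed points of small degree with separable residue field, as zeros of sections of invertible modules.
-/

set_option autoImplicit false
set_option backward.isDefEq.respectTransparency false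
set_option linter.style.haveILetI false
universe u

open CategoryTheory CategoryTheory.Limits AlgebraicGeometry TopologicalSpace Opposite
open scoped TensorProduct nonZeroDivisors

noncomputable section

namespace Groth.L21.SepSeries

open Groth.L21.RR (h e0 e0_smul finite_HH' st one)
open Groth.L21.Duality (gη γη gη_smul gη_rs γη_ro gη_injective generic_mem exists_section_of_local)
open Groth.L18.Frame (rs ro IsFrame)

attribute [local instance] Curv2.stalkAlgebra

variable (k : Type u) [Field k] {X : Scheme.{u}} [IsIntegral X] [X.Over (Spec (CommRingCat.of k))]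
  [IsProper (X ↘ Spec (CommRingCat.of k))] [Smooth (X ↘ Spec (CommRingCat.of k))]

omit [IsProper (X ↘ Spec (CommRingCat.of k))] [Smooth (X ↘ Spec (CommRingCat.of k))] in
theorem isScalarTower_sec {W : X.Opens} [Nonempty W] :
    letI := secAlg k W
    IsScalarTower k Γ(X, W) X.functionField :=
  letI := secAlg k W
  IsScalarTower.of_algebraMap_eq fun c =>
    (γη_cs k (generic_mem (Classical.arbitrary W).2) c).symm

/-- One differential spans those of the function field, and the function field is not algebraic. -/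
theorem exists_span_functionField (hd : topologicalKrullDim X = 1) :
    (∃ t : X.functionField, ∀ y, KaehlerDifferential.D k X.functionField y ∈
      Submodule.span X.functionField {KaehlerDifferential.D k X.functionField t}) ∧
      ¬ Algebra.IsAlgebraic k X.functionField ∧ Algebra.EssFiniteType k X.functionField := by
  haveI := Groth.L21.RR.isNoetherian_of_proper (X := X) k
  set p := X ↘ Spec (CommRingCat.of k)
  have hnorm : ∀ x : X, IsDomain (X.presheaf.stalk x) ∧ IsIntegrallyClosed (X.presheaf.stalk x) := fun x =>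
    ⟨Groth.L21.Smooth.isDomain_stalk p x, Groth.L21.Smooth.isIntegrallyClosed_stalk p x⟩
  obtain ⟨V, hV, W, hW, hηW, e, hsm⟩ := Smooth.exists_isStandardSmooth p (genericPoint X)
  obtain rfl : V = ⊤ := by
    ext y
    simp only [Opens.coe_top, Set.mem_univ, iff_true]
    obtain rfl : y = p (genericPoint X) := Subsingleton.elim (α := PrimeSpectrum k) _ _
    exact e hηW
  letI := secAlg k W
  haveI : Algebra.IsStandardSmooth k Γ(X, W) := RingHom.isStandardSmooth_respectsIso.2 _
    (Scheme.ΓSpecIso (CommRingCat.of k)).symm.commRingCatIsoToRingEquiv hsm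
  haveI : Nonempty W := ⟨⟨_, hηW⟩⟩
  haveI := isScalarTower_sec k (X := X) (W := W)
  haveI := functionField_isFractionRing_of_isAffineOpen X W hW
  haveI := Groth.L21.isDedekindDomain_of_normal hd.le hnorm hW
  have hA : ¬ IsField Γ(X, W) := fun hfld => by
    letI := hfld.toField
    haveI : Subsingleton (PrimeSpectrum Γ(X, W)) := inferInstance
    haveI : Subsingleton (Spec Γ(X, W)) := ‹Subsingleton (PrimeSpectrum Γ(X, W))›
    haveI : Subsingleton W := hW.isoSpec.hom.homeomorph.injective.subsingleton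
    obtain ⟨z, hz, hzc⟩ : ∃ z ∈ (W : Set X), IsClosed ({z} : Set X) := by
      haveI : JacobsonSpace X := LocallyOfFiniteType.jacobsonSpace p
      exact nonempty_inter_closedPoints ⟨_, hηW⟩ W.2.isLocallyClosed
    exact Groth.L21.RR.ne_genericPoint_of_isClosed hd hzc
      (congrArg Subtype.val (Subsingleton.elim (α := (W : Scheme.{u})) ⟨z, hz⟩ ⟨genericPoint X, hηW⟩))
  obtain ⟨t, ht⟩ := Groth.L21.Duality.exists_span_differential k Γ(X, W) hA
  haveI : Algebra.EssFiniteType k X.functionField :=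
    haveI : Algebra.EssFiniteType Γ(X, W) X.functionField := Algebra.EssFiniteType.of_isLocalization _ Γ(X, W)⁰
    Algebra.EssFiniteType.comp k Γ(X, W) X.functionField
  refine ⟨⟨algebraMap Γ(X, W) X.functionField t, fun y => ?_⟩, fun halg => ?_, inferInstance⟩
  · let dd : Derivation k Γ(X, W) Ω[X.functionField⁄k] := (KaehlerDifferential.D k X.functionField).compAlgebraMap Γ(X, W)
    have hdd : ∀ a, dd a = KaehlerDifferential.D k X.functionField (algebraMap Γ(X, W) X.functionField a) := fun a => rfl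
    have hmem : ∀ a, dd a ∈ Submodule.span X.functionField
        {KaehlerDifferential.D k X.functionField (algebraMap Γ(X, W) X.functionField t)} := fun a => by
      obtain ⟨c, d, hd0, hcd⟩ := ht a
      have h1 := congrArg dd.liftKaehlerDifferential hcd
      rw [map_smul, map_smul, Derivation.liftKaehlerDifferential_comp_D, Derivation.liftKaehlerDifferential_comp_D,
        ← IsScalarTower.algebraMap_smul X.functionField d, ← IsScalarTower.algebraMap_smul X.functionField c] at h1
      refine (Submodule.smul_mem_iff _ ((map_ne_zero_iff _ (IsFractionRing.injective Γ(X, W) X.functionField)).2 hd0)).1 ?_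
      rw [h1, hdd t]
      exact Submodule.smul_mem _ _ (Submodule.mem_span_singleton_self _)
    obtain ⟨a, s, hs, rfl⟩ := IsFractionRing.div_surjective (A := Γ(X, W)) y
    rw [Derivation.leibniz_div]
    exact Submodule.smul_mem _ _ (sub_mem (Submodule.smul_mem _ _ (hmem a)) (Submodule.smul_mem _ _ (hmem s)))
  · have hinj := Groth.L21.Duality.aeval_injective_of_span hA ht
    obtain ⟨q, hq0, hq⟩ := Algebra.IsAlgebraic.isAlgebraic (R := k) (algebraMap Γ(X, W) X.functionField t)
    rw [Polynomial.aeval_algebraMap_apply, map_eq_zero_iff _ (IsFractionRing.injective Γ(X, W) X.functionField)] at hq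
    exact hq0 (hinj (hq.trans (map_zero _).symm))

variable {L : X.Modules}

/-- Some ratio of two sections has non-zero differential. -/
theorem exists_ratio (hd : topologicalKrullDim X = 1) (h0 : h k 0 (Coh.structureModule X) = 1)
    (hL : PicF.IsInvertible L) (hL2 : 2 ≤ h k 0 L) :
    ∃ (W : X.Opens) (ε : Γ(L, W)) (hη : genericPoint X ∈ W) (φ₀ φ₁ : Coh.structureModule X ⟶ L) (a₀ a₁ : Γ(X, W)),
      IsFrame L W ε ∧ a₀ • ε = rs L le_top (Groth.L18.GenLoc.secOf φ₀) ∧
        a₁ • ε = rs L le_top (Groth.L18.GenLoc.secOf φ₁) ∧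
        γη hη a₀ ≠ 0 ∧ KaehlerDifferential.D k X.functionField (γη hη a₁ * (γη hη a₀)⁻¹) ≠ 0 := by
  haveI := Groth.L21.RR.isNoetherian_of_proper (X := X) k
  set K := X.functionField
  obtain ⟨⟨t, ht⟩, hna, hess⟩ := exists_span_functionField k hd (X := X)
  haveI := hess
  obtain ⟨W₀, ε₀, hη₀', hε₀⟩ := Groth.L18.Frame.exists_frame hL (genericPoint X)
  let δ := gη L hη₀' ε₀
  let θ : K ≃ₗ[K] L.presheaf.stalk (genericPoint X) :=
    LinearEquiv.ofBijective (LinearMap.toSpanSingleton K (L.presheaf.stalk (genericPoint X)) δ)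
      (Groth.L21.RR.bijective_germ_frame hε₀ hη₀')
  let Φ : Coh.HH X L 0 →ₗ[k] K :=
    { toFun := fun x => θ.symm (gη L (Opens.mem_top _) (e0 L x))
      map_add' := fun x y => by rw [map_add, gη, map_add, map_add]
      map_smul' := fun c x => by
        rw [e0_smul, gη_smul, LinearEquiv.map_smul, RingHom.id_apply]
        exact (Algebra.smul_def c (θ.symm (gη L (Opens.mem_top _) (e0 L x)))).symm ▸ rfl }
  have hΦ : Function.Injective Φ := fun x y hxy =>
    (e0 L).injective (gη_injective hL (Opens.mem_top _) (θ.symm.injective hxy))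
  haveI := finite_HH' k (Groth.L16.ProperFinite.isCoh_of_isInvertible hL) 0
  let V := LinearMap.range Φ
  -- charts
  have hch : ∀ y : X, ∃ (W : X.Opens) (ε : Γ(L, W)), IsAffineOpen W ∧ y ∈ W ∧ IsFrame L W ε := fun y => by
    obtain ⟨W', ε', hy, hε'⟩ := Groth.L18.Frame.exists_frame hL y
    obtain ⟨W, hW, hyW, hle⟩ := exists_isAffineOpen_mem_and_subset (x := y) (U := W') hy
    exact ⟨W, rs L hle ε', hW, hyW, hε'.mono hle⟩
  choose W ε hW hyW hε using hch
  have hη : ∀ y, genericPoint X ∈ W y := fun y => generic_mem (hyW y)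
  let u : X → K := fun y => θ.symm (gη L (hη y) (ε y))
  have hue : ∀ y, u y • δ = gη L (hη y) (ε y) := fun y => θ.apply_symm_apply _
  have hu : ∀ y, u y ≠ 0 := fun y h0' => by
    have h1 := hue y
    rw [h0', zero_smul] at h1
    exact one_ne_zero (α := K) ((Groth.L21.RR.bijective_germ_frame (hε y) (hη y)).1 (a₁ := 1) (a₂ := 0)
      (((one_smul K _).trans h1.symm).trans (zero_smul K _).symm))
  have hV : ∀ x, x ∈ V ↔ ∀ y, x * (u y)⁻¹ ∈ secSub k (W y) (hη y) := fun x => by
    constructor
    · rintro ⟨z, rfl⟩ y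
      obtain ⟨a, ha⟩ := (hε y).exists_coeff le_rfl (rs L le_top (e0 L z))
      refine ⟨a, ?_⟩
      rw [eq_mul_inv_iff_mul_eq₀ (hu y)]
      refine θ.injective ?_
      show (γη (hη y) a * u y) • δ = θ (θ.symm (gη L (Opens.mem_top _) (e0 L z)))
      rw [θ.apply_symm_apply, ← smul_smul, hue y]
      have h1 := congrArg (gη L (hη y)) ha
      rw [gη_smul, gη_rs, gη_rs] at h1
      exact h1
    · intro hx
      obtain ⟨s, hs⟩ := exists_section_of_local hL (W := ⊤) (Opens.mem_top _) (x • δ) fun y _ => by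
        obtain ⟨a, ha⟩ := hx y
        refine ⟨W y, hyW y, a • ε y, ?_⟩
        rw [gη_smul, ← hue y, smul_smul, ha, inv_mul_cancel_right₀ (hu y)]
      refine ⟨(e0 L).symm s, ?_⟩
      show θ.symm (gη L (Opens.mem_top _) (e0 L ((e0 L).symm s))) = x
      rw [AddEquiv.apply_symm_apply, hs]
      exact θ.symm_apply_apply x
  -- two independent sections
  obtain ⟨x₀, hx₀⟩ : ∃ x : Coh.HH X L 0, x ≠ 0 := by
    haveI : Nontrivial (Coh.HH X L 0) := Groth.L21.Duality.nontrivial_of_h0_pos (k := k) (by omega)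
    exact exists_ne 0
  obtain ⟨x₁, hx₁⟩ : ∃ x₁, KaehlerDifferential.D k K (Φ x₁ * (Φ x₀)⁻¹) ≠ 0 := by
    by_contra! hall
    have hall' : ∀ w ∈ V, KaehlerDifferential.D k K (w * (Φ x₀)⁻¹) = 0 := by
      rintro _ ⟨z, rfl⟩
      exact hall z
    have hΦ0 : Φ x₀ ≠ 0 := fun h => hx₀ (hΦ (h.trans (map_zero Φ).symm))
    have hdom := fun y => isDomain_tensor k h0 (hW y) (hη y)
    haveI : Nonempty X := ⟨genericPoint X⟩
    have key : ∀ z, ∃ c : k, Φ z = algebraMap k K c * Φ x₀ := fun z => by
      refine Groth.L21.CompleteSeries.exists_eq_smul_of_D_eq_zero (fun y => secSub k (W y) (hη y)) u V hu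
        (fun y x => ?_) (fun y => ?_) (fun y => ?_) hV ht hna
        (fun x hx => mem_range_of_isAlgebraic k hd h0 hx) ⟨x₀, rfl⟩ hΦ0 hall' ⟨z, rfl⟩
      · haveI : Nonempty (W y) := ⟨⟨_, hη y⟩⟩
        haveI := functionField_isFractionRing_of_isAffineOpen X (W y) (hW y)
        obtain ⟨a, b, hb, rfl⟩ := IsFractionRing.div_surjective (A := Γ(X, W y)) x
        have hb0 := (map_ne_zero_iff _ (IsFractionRing.injective Γ(X, W y) K)).2 (nonZeroDivisors.ne_zero hb)
        exact ⟨algebraMap _ K b, ⟨b, rfl⟩, hb0, ⟨a, (mul_div_cancel₀ _ hb0).symm⟩⟩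
      · letI := secAlg k (W y)
        haveI := (hdom y).1
        exact MulEquiv.isDomain _ (Algebra.TensorProduct.congr (AlgEquiv.refl (R := k) (A₁ := AlgebraicClosure k))
          (secEquiv k (W y) (hη y))).symm.toMulEquiv
      · letI := secAlg k (W y)
        haveI := (hdom y).2
        exact IsIntegrallyClosed.of_equiv (Algebra.TensorProduct.congr
          (AlgEquiv.refl (R := k) (A₁ := AlgebraicClosure k)) (secEquiv k (W y) (hη y))).toRingEquiv
    have h1 : Module.finrank k (Coh.HH X L 0) ≤ 1 := finrank_le_one x₀ fun z => by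
      obtain ⟨c, hc⟩ := key z
      exact ⟨c, hΦ (by rw [map_smul, Algebra.smul_def, hc])⟩
    have h2 : 2 ≤ Module.finrank k (Coh.HH X L 0) := hL2
    omega
  obtain ⟨φ₀, hφ₀⟩ := Groth.L21.RR.exists_hom_of_hh0 x₀
  obtain ⟨φ₁, hφ₁⟩ := Groth.L21.RR.exists_hom_of_hh0 x₁
  obtain ⟨a₀, ha₀⟩ := hε₀.exists_coeff le_rfl (rs L le_top (Groth.L18.GenLoc.secOf φ₀))
  obtain ⟨a₁, ha₁⟩ := hε₀.exists_coeff le_rfl (rs L le_top (Groth.L18.GenLoc.secOf φ₁))
  rw [Groth.L18.Frame.rs_self] at ha₀ ha₁
  have hval : ∀ (x : Coh.HH X L 0) (φ : Coh.structureModule X ⟶ L), φ.app ⊤ (Groth.L21.RR.oneSec X) = e0 L x →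
      ∀ a : Γ(X, W₀), a • ε₀ = rs L le_top (Groth.L18.GenLoc.secOf φ) → γη hη₀' a = Φ x := fun x φ hφ a ha => by
    refine θ.injective ?_
    show γη hη₀' a • δ = θ (θ.symm (gη L (Opens.mem_top _) (e0 L x)))
    rw [θ.apply_symm_apply, ← gη_smul, ha, gη_rs, ← hφ]
    rfl
  refine ⟨W₀, ε₀, hη₀', φ₀, φ₁, a₀, a₁, hε₀, ha₀, ha₁, ?_, ?_⟩
  · rw [hval x₀ φ₀ hφ₀ a₀ ha₀]
    exact fun h => hx₀ (hΦ (h.trans (map_zero Φ).symm))
  · rw [hval x₀ φ₀ hφ₀ a₀ ha₀, hval x₁ φ₁ hφ₁ a₁ ha₁]
    exact hx₁

/-- A section with a zero at a closed point has degree at least the degree of the point. -/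
theorem finrank_le_deg (hd : topologicalKrullDim X = 1) (hL : PicF.IsInvertible L) {P : X}
    (hP : IsClosed ({P} : Set X)) (φ : Coh.structureModule X ⟶ L) (hφ : φ ≠ 0)
    (hns : ¬ Function.Surjective (st φ P)) :
    (letI := Curv2.resAlgebra k X P; (Module.finrank k (X.residueField P) : ℤ)) ≤ Curv2.deg k X L 1 := by
  letI := Curv2.resAlgebra k X P
  obtain ⟨M, ι, hι, hM, heM, -⟩ := Groth.L21.RR.exists_minus_point k hd hL hP
  obtain ⟨ψ, hψ⟩ := hι.exists_lift_section hL φ hns
  haveI : Nontrivial (Coh.HH X M 0) := by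
    refine ⟨(e0 M).symm (ψ.app ⊤ (Groth.L21.RR.oneSec X)), 0, fun h1 => hφ ?_⟩
    rw [← hψ, show ψ = 0 from Groth.L21.RR.hom_ext_one (((e0 _).symm.injective (h1.trans (map_zero _).symm)).trans rfl),
      zero_comp]
  have h1 := Groth.L21.RR.deg_nonneg k hd.le hM inferInstance
  rw [Curv2.deg, heM] at h1
  rw [Curv2.deg]
  linarith

end Groth.L21.SepSeries
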