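import Groth.Agent.L21.Sep.SepPoint

/-!
A general member of a pencil without inseparable ratio has a zero with separable residue field.
-/

set_option autoImplicit false
set_option backward.isDefEq.respectTransparency false
set_option linter.style.haveILetI false
universe u

open CategoryTheory CategoryTheory.Limits AlgebraicGeometry TopologicalSpace Opposite
open scoped TensorProduct nonZeroDivisors

noncomputable section

namespace Groth.L21.SepSeries

/-- Away from a closed subset, rational fibres of an element with spanning differential consist of separable points. -/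
theorem exists_fibre_unramified {k A K : Type u} [Field k] [Infinite k] [CommRing A] [IsDomain A] [Algebra k A]
    [Algebra.FiniteType k A] [Field K] [Algebra k K] [Algebra A K] [IsScalarTower k A K] [IsFractionRing A K]
    (hK : ¬ Algebra.IsAlgebraic k K) (r : A)
    (hspan : ∀ y : K, KaehlerDifferential.D k K y ∈
      Submodule.span K {KaehlerDifferential.D k K (algebraMap A K r)}) {a₀ : A} (ha₀ : a₀ ≠ 0) :
    ∃ (c : k) (q : Ideal A), q.IsMaximal ∧ r - algebraMap k A c ∈ q ∧ a₀ ∉ q ∧
      Algebra.IsSeparable k (A ⧸ q) ∧ Module.Finite k (A ⧸ q) := by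
  haveI : Algebra.EssFiniteType k K :=
    haveI : Algebra.EssFiniteType A K := Algebra.EssFiniteType.of_isLocalization _ A⁰
    Algebra.EssFiniteType.comp k A K
  let R := Polynomial k
  letI : Algebra R A := (Polynomial.aeval r).toRingHom.toAlgebra
  haveI : IsScalarTower k R A :=
    IsScalarTower.of_algebraMap_eq fun c => (Polynomial.aeval_C r c).symm
  letI : Algebra R K := ((algebraMap A K).comp (algebraMap R A)).toAlgebra
  haveI : IsScalarTower R A K := IsScalarTower.of_algebraMap_eq fun _ => rfl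
  haveI : IsScalarTower k R K := IsScalarTower.of_algebraMap_eq fun c => by
    rw [IsScalarTower.algebraMap_apply k A K, IsScalarTower.algebraMap_apply k R A]
    rfl
  -- transcendence
  have hinj : Function.Injective (algebraMap R A) := by
    refine (injective_iff_map_eq_zero _).2 fun P hP => ?_
    by_contra hP0
    refine hK ?_
    let F := IntermediateField.adjoin k ({algebraMap A K r} : Set K)
    have halg : IsAlgebraic k (algebraMap A K r) := ⟨P, hP0, by
      rw [Polynomial.aeval_algebraMap_apply, show Polynomial.aeval r P = 0 from hP, map_zero]⟩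
    haveI : FiniteDimensional k F := IntermediateField.adjoin.finiteDimensional halg.isIntegral
    haveI : Algebra.IsSeparable F K :=
      Groth.L21.DiffKer.isSeparable_of_mem hspan ⟨⟨_, IntermediateField.mem_adjoin_simple_self k _⟩, rfl⟩
    exact Algebra.IsAlgebraic.trans k F K
  -- generic unramifiedness
  haveI hKR : Algebra.FormallyUnramified R K := by
    refine ⟨?_⟩
    have hD : ∀ y : K, KaehlerDifferential.D R K y = 0 := fun y => by
      obtain ⟨c, hc⟩ := Submodule.mem_span_singleton.1 (hspan y)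
      have h1 := congrArg (KaehlerDifferential.map k R K K) hc
      rw [map_smul, KaehlerDifferential.map_D, KaehlerDifferential.map_D] at h1
      have h2 : KaehlerDifferential.D R K (algebraMap A K r) = 0 := by
        rw [show algebraMap A K r = algebraMap R K Polynomial.X from
          (congrArg (algebraMap A K) (Polynomial.aeval_X r)).symm, Derivation.map_algebraMap]
      simp only [Algebra.algebraMap_self, RingHom.id_apply, h2, smul_zero] at h1
      exact h1.symm
    refine ⟨fun a b => ?_⟩
    have hbot : (⊤ : Submodule K Ω[K⁄R]) ≤ ⊥ := by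
      rw [← KaehlerDifferential.span_range_derivation, Submodule.span_le]
      rintro _ ⟨x, rfl⟩
      exact (Submodule.mem_bot K).2 (hD x)
    exact ((Submodule.mem_bot K).1 (hbot (x := a) trivial)).trans
      ((Submodule.mem_bot K).1 (hbot (x := b) trivial)).symm
  haveI : (⊥ : Ideal A).IsPrime := Ideal.isPrime_bot
  haveI : IsLocalization.AtPrime K (⊥ : Ideal A) := by
    have h : (⊥ : Ideal A).primeCompl = A⁰ := by
      ext x
      simp [mem_nonZeroDivisors_iff_ne_zero]
    show IsLocalization (⊥ : Ideal A).primeCompl K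
    rw [h]
    infer_instance
  haveI : Algebra.IsUnramifiedAt R (⊥ : Ideal A) :=
    Algebra.FormallyUnramified.of_equiv
      ((IsLocalization.algEquiv (⊥ : Ideal A).primeCompl K (Localization.AtPrime (⊥ : Ideal A))).restrictScalars R)
  haveI : Algebra.FiniteType R A := Algebra.FiniteType.of_restrictScalars_finiteType k R A
  obtain ⟨f, hf, hunr⟩ := Algebra.exists_formallyUnramified_of_isUnramifiedAt (R := R) (⊥ : Ideal A)
  have hf0 : f ≠ 0 := fun h => hf (Ideal.mem_bot.2 h)
  -- the open image
  let g := f * a₀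
  have hg0 : g ≠ 0 := mul_ne_zero hf0 ha₀
  haveI : Module.IsTorsionFree R A := Module.IsTorsionFree.of_smul_eq_zero fun c x hcx => by
    rw [Algebra.smul_def, mul_eq_zero] at hcx
    exact hcx.imp_left fun h => (injective_iff_map_eq_zero _).1 hinj c h
  haveI : Algebra.FinitePresentation R A := Algebra.FinitePresentation.of_finiteType.1 inferInstance
  have hopen := PrimeSpectrum.isOpenMap_comap_of_hasGoingDown_of_finitePresentation (R := R) (S := A) _
    (PrimeSpectrum.basicOpen g).2
  have hbotg : (⟨⊥, Ideal.isPrime_bot⟩ : PrimeSpectrum A) ∈ (PrimeSpectrum.basicOpen g : Set _) := fun h =>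
    hg0 (Ideal.mem_bot.1 h)
  obtain ⟨_, ⟨_, ⟨P, rfl⟩, rfl⟩, hP0, hP⟩ := PrimeSpectrum.isBasis_basic_opens.exists_subset_of_mem_open
    (show PrimeSpectrum.comap (algebraMap R A) ⟨⊥, Ideal.isPrime_bot⟩ ∈
      PrimeSpectrum.comap (algebraMap R A) '' (PrimeSpectrum.basicOpen g : Set _) from ⟨_, hbotg, rfl⟩) hopen
  have hPne : P ≠ 0 := fun h => by
    rw [h, PrimeSpectrum.basicOpen_zero] at hP0
    exact hP0.elim
  obtain ⟨c, hc⟩ : ∃ c : k, ¬ P.IsRoot c := by
    by_contra! hall
    exact hPne (Polynomial.funext fun c => by rw [hall c, Polynomial.eval_zero])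
  let pc : PrimeSpectrum R := ⟨Ideal.span {Polynomial.X - Polynomial.C c}, by
    rw [Ideal.span_singleton_prime (Polynomial.X_sub_C_ne_zero c)]
    exact Polynomial.prime_X_sub_C c⟩
  obtain ⟨q', hq'g, hq'⟩ := hP (show pc ∈ (PrimeSpectrum.basicOpen P : Set _) from fun h =>
    hc (Polynomial.dvd_iff_isRoot.1 (Ideal.mem_span_singleton.1 h)))
  -- a maximal ideal of the localisation over it
  have hrc : r - algebraMap k A c ∈ q'.asIdeal := by
    have h1 : Polynomial.X - Polynomial.C c ∈ (PrimeSpectrum.comap (algebraMap R A) q').asIdeal := by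
      rw [hq']
      exact Ideal.subset_span rfl
    have h2 : (Polynomial.aeval r) (Polynomial.X - Polynomial.C c) ∈ q'.asIdeal := h1
    rwa [map_sub, Polynomial.aeval_X, Polynomial.aeval_C] at h2
  haveI : IsJacobsonRing A := isJacobsonRing_of_finiteType (A := k)
  obtain ⟨q, hqmax, hq'q, hgq⟩ : ∃ q : Ideal A, q.IsMaximal ∧ q'.asIdeal ≤ q ∧ g ∉ q := by
    by_contra! hall
    refine hq'g ?_
    show g ∈ q'.asIdeal
    rw [← isJacobsonRing_iff.1 inferInstance q'.asIdeal (Ideal.IsPrime.isRadical q'.2)]
    exact Ideal.mem_sInf.2 fun {J} hJ => hall J hJ.2 hJ.1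
  haveI := hqmax
  letI : Field (A ⧸ q) := Ideal.Quotient.field q
  refine ⟨c, q, hqmax, hq'q hrc, fun h => hgq (Ideal.mul_mem_left _ _ h), ?_⟩
  haveI : Module.Finite k (A ⧸ q) := finite_of_finite_type_of_isJacobsonRing k _
  refine ⟨?_, inferInstance⟩
  -- unramified over the base field
  have hfu : IsUnit (Ideal.Quotient.mk q f) :=
    isUnit_iff_ne_zero.2 fun h => hgq (Ideal.mul_mem_right _ _ (Ideal.Quotient.eq_zero_iff_mem.1 h))
  let π : Localization.Away f →+* A ⧸ q := IsLocalization.Away.lift f hfu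
  letI : Algebra (Localization.Away f) (A ⧸ q) := π.toAlgebra
  haveI : IsScalarTower A (Localization.Away f) (A ⧸ q) :=
    IsScalarTower.of_algebraMap_eq fun x => (IsLocalization.Away.lift_eq f hfu x).symm
  haveI : IsScalarTower R (Localization.Away f) (A ⧸ q) := IsScalarTower.of_algebraMap_eq fun x => by
    rw [IsScalarTower.algebraMap_apply R A (Localization.Away f), ← IsScalarTower.algebraMap_apply A (Localization.Away f) (A ⧸ q)]
    rfl
  haveI : Algebra.FormallyUnramified (Localization.Away f) (A ⧸ q) :=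
    Algebra.FormallyUnramified.of_surjective (Algebra.ofId (Localization.Away f) (A ⧸ q)) fun x => by
      obtain ⟨x, rfl⟩ := Ideal.Quotient.mk_surjective x
      exact ⟨algebraMap A _ x, IsLocalization.Away.lift_eq f hfu x⟩
  haveI := hunr
  haveI : Algebra.FormallyUnramified R (A ⧸ q) := Algebra.FormallyUnramified.comp R (Localization.Away f) (A ⧸ q)
  haveI : Algebra.FormallyUnramified k (A ⧸ q) := by
    refine ⟨⟨fun a b => ?_⟩⟩
    have hD : ∀ z : A ⧸ q, KaehlerDifferential.D k (A ⧸ q) z = 0 := fun z => by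
      obtain ⟨w, hw⟩ := (KaehlerDifferential.exact_mapBaseChange_map k R (A ⧸ q) (KaehlerDifferential.D k (A ⧸ q) z)).1
        (Subsingleton.elim _ _)
      rw [← hw]
      clear hw
      induction w using TensorProduct.induction_on with
      | zero => exact map_zero _
      | tmul a ω =>
        rw [KaehlerDifferential.mapBaseChange_tmul]
        have h3 : KaehlerDifferential.map k k R (A ⧸ q) ω = 0 := by
          have hω : ω ∈ Submodule.span R (Set.range (KaehlerDifferential.D k R)) := by
            rw [KaehlerDifferential.span_range_derivation]; exact Submodule.mem_top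
          refine Submodule.span_induction ?_ (map_zero _) (fun _ _ _ _ h1 h2 => by rw [map_add, h1, h2, add_zero])
            (fun c _ _ h1 => by rw [map_smul, h1, smul_zero]) hω
          rintro _ ⟨P, rfl⟩
          rw [KaehlerDifferential.map_D]
          have h4 : algebraMap R (A ⧸ q) P = algebraMap k (A ⧸ q) (P.eval c) := by
            show Ideal.Quotient.mk q (Polynomial.aeval r P) = _
            rw [show Polynomial.aeval r P = Polynomial.aeval r P from rfl, ← Ideal.Quotient.mkₐ_eq_mk k q,
              ← Polynomial.aeval_algHom_apply,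
              show Ideal.Quotient.mkₐ k q r = algebraMap k (A ⧸ q) c from
                Ideal.Quotient.eq.2 (hq'q hrc), Polynomial.aeval_algebraMap_apply]
            simp
          rw [h4, Derivation.map_algebraMap]
        rw [h3, smul_zero]
      | add a b ha hb => rw [map_add, ha, hb, add_zero]
    have hbot : (⊤ : Submodule (A ⧸ q) Ω[A ⧸ q⁄k]) ≤ ⊥ := by
      rw [← KaehlerDifferential.span_range_derivation, Submodule.span_le]
      rintro _ ⟨x, rfl⟩
      exact (Submodule.mem_bot _).2 (hD x)
    exact ((Submodule.mem_bot _).1 (hbot (x := a) trivial)).trans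
      ((Submodule.mem_bot _).1 (hbot (x := b) trivial)).symm
  exact Algebra.FormallyUnramified.isSeparable k (A ⧸ q)

open Groth.L21.RR (h e0 e0_smul finite_HH' st one)
open Groth.L21.Duality (gη γη gη_smul gη_rs γη_ro gη_injective generic_mem)
open Groth.L18.Frame (rs ro IsFrame)

attribute [local instance] Curv2.stalkAlgebra

variable (k : Type u) [Field k] {X : Scheme.{u}} [IsIntegral X] [X.Over (Spec (CommRingCat.of k))]
  [IsProper (X ↘ Spec (CommRingCat.of k))] [Smooth (X ↘ Spec (CommRingCat.of k))]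

/-- An invertible module with two sections gives a separable point of degree at most its degree. -/
theorem exists_separable_point (hd : topologicalKrullDim X = 1) (h0 : h k 0 (Coh.structureModule X) = 1)
    {L : X.Modules} (hL : PicF.IsInvertible L) (hL2 : 2 ≤ h k 0 L) (hdeg : Curv2.deg k X L 1 ≠ 0) :
    letI := fun z : X => Curv2.resAlgebra k X z
    ∃ x : X, IsClosed ({x} : Set X) ∧ Algebra.IsSeparable k (X.residueField x) ∧
      (Module.finrank k (X.residueField x) : ℤ) ≤ Curv2.deg k X L 1 ∧ FiniteDimensional k (X.residueField x) := by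
  letI := fun z : X => Curv2.resAlgebra k X z
  haveI := Groth.L21.RR.isNoetherian_of_proper (X := X) k
  set p := X ↘ Spec (CommRingCat.of k)
  rcases finite_or_infinite k with hk | hk
  · obtain ⟨φ, hφ⟩ : ∃ φ : Coh.structureModule X ⟶ L, φ ≠ 0 := by
      haveI : Nontrivial (Coh.HH X L 0) := Groth.L21.Duality.nontrivial_of_h0_pos (k := k) (by omega)
      exact Groth.L21.RR.exists_hom_ne_zero (L := L)
    obtain ⟨P, hP, hns⟩ := Groth.L21.Duality.exists_not_surjective (k := k) hd.le hL hdeg φ
    haveI hfin : Module.Finite k (X.residueField P) := Groth.L21.Disc.finite_residueField_of_isClosed (k := k) hP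
    exact ⟨P, hP, Algebra.IsAlgebraic.isSeparable_of_perfectField, finrank_le_deg k hd hL hP φ hφ hns, hfin⟩
  obtain ⟨⟨t, ht⟩, hna, -⟩ := exists_span_functionField k hd (X := X)
  obtain ⟨W₀, ε, hη₀, φ₀, φ₁, a₀, a₁, hε, ha₀, ha₁, ha₀ne, hD⟩ := exists_ratio k hd h0 hL hL2
  have hηW : genericPoint X ∈ X.basicOpen a₀ := (X.mem_basicOpen a₀ _ hη₀).2 (isUnit_iff_ne_zero.2 ha₀ne)
  obtain ⟨W, hW, hηW', hWle⟩ := exists_isAffineOpen_mem_and_subset (x := genericPoint X) (U := X.basicOpen a₀) hηW
  have hWW₀ : W ≤ W₀ := le_trans hWle (X.basicOpen_le a₀)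
  have hu : IsUnit (ro hWW₀ a₀) := by
    have h1 := RingedSpace.isUnit_res_basicOpen X.toRingedSpace a₀
    have h2 := h1.map (X.presheaf.map (homOfLE hWle).op).hom
    have h3 : (X.presheaf.map (homOfLE hWle).op).hom ((X.presheaf.map (homOfLE (X.basicOpen_le a₀)).op).hom a₀) =
        ro hWW₀ a₀ := Groth.L18.Frame.ro_ro _ _ _
    exact h3 ▸ h2
  letI := secAlg k W
  haveI : Nonempty W := ⟨⟨_, hηW'⟩⟩
  haveI := isScalarTower_sec k (X := X) (W := W)
  haveI := functionField_isFractionRing_of_isAffineOpen X W hW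
  haveI : Algebra.FiniteType k Γ(X, W) := by
    have := HasRingHomProperty.appLE @LocallyOfFiniteType p inferInstance ⟨⊤, isAffineOpen_top _⟩ ⟨W, hW⟩ (by simp)
    exact RingHom.finiteType_algebraMap.1 (RingHom.finiteType_respectsIso.2 _
      (Scheme.ΓSpecIso (CommRingCat.of k)).symm.commRingCatIsoToRingEquiv this)
  let r := ro hWW₀ a₁ * (hu.unit⁻¹ : Γ(X, W)ˣ)
  have hr : r * ro hWW₀ a₀ = ro hWW₀ a₁ := by rw [mul_assoc, IsUnit.val_inv_mul, mul_one]
  have hrK : algebraMap Γ(X, W) X.functionField r = γη hη₀ a₁ * (γη hη₀ a₀)⁻¹ := by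
    rw [eq_mul_inv_iff_mul_eq₀ ha₀ne, ← γη_ro hWW₀ hηW' a₀, ← γη_ro hWW₀ hηW' a₁]
    exact (map_mul (γη hηW') r (ro hWW₀ a₀)).symm.trans (congrArg (γη hηW') hr)
  have hspan : ∀ y : X.functionField, KaehlerDifferential.D k X.functionField y ∈ Submodule.span X.functionField
      {KaehlerDifferential.D k X.functionField (algebraMap Γ(X, W) X.functionField r)} := fun y => by
    obtain ⟨γ, hγ⟩ := Submodule.mem_span_singleton.1 (ht (algebraMap Γ(X, W) X.functionField r))
    obtain ⟨η, hη⟩ := Submodule.mem_span_singleton.1 (ht y)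
    have hγ0 : γ ≠ 0 := fun h0' => hD (by rw [← hrK, ← hγ, h0', zero_smul])
    refine Submodule.mem_span_singleton.2 ⟨η * γ⁻¹, ?_⟩
    rw [← hγ, smul_smul, inv_mul_cancel_right₀ hγ0, hη]
  obtain ⟨c, q, hq, hrc, ha₀q, hsep, hfinq⟩ := exists_fibre_unramified (K := X.functionField) hna r hspan
    (a₀ := ro hWW₀ a₀) hu.ne_zero
  haveI := hq
  letI : Field (Γ(X, W) ⧸ q) := Ideal.Quotient.field q
  let pc : PrimeSpectrum Γ(X, W) := ⟨q, inferInstance⟩
  let P := hW.fromSpec pc
  have hPW : P ∈ W := hW.opensRange_fromSpec.le ⟨pc, rfl⟩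
  haveI : JacobsonSpace X := LocallyOfFiniteType.jacobsonSpace p
  have hP : IsClosed ({P} : Set X) := by
    refine isClosed_singleton_of_isLocallyClosed_singleton ?_
    rw [← Set.image_singleton (f := fun z => hW.fromSpec z)]
    exact ((PrimeSpectrum.isClosed_singleton_iff_isMaximal pc).2 hq).isLocallyClosed.image
      hW.fromSpec.isOpenEmbedding.isInducing hW.fromSpec.isOpenEmbedding.isOpen_range.isLocallyClosed
  -- residue field
  let s : Spec (CommRingCat.of (Γ(X, W) ⧸ q)) ⟶ X := Spec.map (CommRingCat.ofHom (Ideal.Quotient.mk q)) ≫ hW.fromSpec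
  let pt := IsLocalRing.closedPoint (Γ(X, W) ⧸ q)
  have hpt : s pt = P := by
    refine (Scheme.Hom.comp_apply _ _ _).trans (congrArg _ (PrimeSpectrum.ext ?_))
    exact (congrArg (Ideal.comap (Ideal.Quotient.mk q)) IsLocalRing.maximalIdeal_eq_bot).trans Ideal.mk_ker
  let ρ := X.descResidueField (Scheme.stalkClosedPointTo s)
  have hρ : Spec.map ρ ≫ X.fromSpecResidueField (s pt) = s :=
    Scheme.descResidueField_stalkClosedPointTo_fromSpecResidueField _ X s
  have hsk : s ≫ p = Spec.map (CommRingCat.ofHom (algebraMap k (Γ(X, W) ⧸ q))) := by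
    have h4 := (isAffineOpen_top (Spec (CommRingCat.of k))).SpecMap_appLE_fromSpec p hW (by simp)
    rw [Category.assoc, ← h4, IsAffineOpen.fromSpec_top, Scheme.isoSpec_Spec_inv, ← Spec.map_comp, ← Spec.map_comp]
    rfl
  have hcomp : ρ.hom.comp (Curv2.resMap k X (s pt)) = algebraMap k (Γ(X, W) ⧸ q) := by
    have h1 : Spec.map ρ ≫ Spec.map (CommRingCat.ofHom (Curv2.resMap k X (s pt))) =
        Spec.map (CommRingCat.ofHom (algebraMap k (Γ(X, W) ⧸ q))) := by
      erw [Groth.L22.FibreDim.SpecMap_resMap k X (s pt)]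
      rw [reassoc_of% hρ]
      exact hsk
    rw [← Spec.map_comp] at h1
    exact congrArg CommRingCat.Hom.hom (Spec.map_injective h1)
  let ι : X.residueField (s pt) →ₐ[k] Γ(X, W) ⧸ q :=
    { ρ.hom with commutes' := fun c => congrFun (congrArg DFunLike.coe hcomp) c }
  haveI := hsep
  haveI := hfinq
  have hsepP : Algebra.IsSeparable k (X.residueField (s pt)) := Algebra.IsSeparable.of_algHom k _ ι
  have hfinP : FiniteDimensional k (X.residueField (s pt)) :=
    FiniteDimensional.of_injective ι.toLinearMap ι.toRingHom.injective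
  rw [hpt] at hsepP hfinP
  -- the member of the pencil through the point
  let φ := φ₁ - Groth.L21.RR.mulC k c ≫ φ₀
  have hgerm : ∀ (Q : X) (hQ : Q ∈ W), st φ Q (one X Q) =
      X.presheaf.germ W Q hQ ((r - algebraMap k Γ(X, W) c) * ro hWW₀ a₀) • L.presheaf.germ W Q hQ (rs L hWW₀ ε) := by
    intro Q hQ
    have e1 : ∀ (ψ : Coh.structureModule X ⟶ L) (a : Γ(X, W₀)), a • ε = rs L le_top (Groth.L18.GenLoc.secOf ψ) →
        st ψ Q (one X Q) = X.presheaf.germ W Q hQ (ro hWW₀ a) • L.presheaf.germ W Q hQ (rs L hWW₀ ε) := by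
      intro ψ a ha
      rw [Groth.L21.RR.st_one ψ Q (W := W₀) (hWW₀ hQ), Groth.L20.ModStalk.germ_rs L hWW₀ hQ,
        TopCat.Presheaf.germ_res_apply X.presheaf (homOfLE hWW₀) Q hQ a, ← Groth.L20.ModStalk.germ_smul, ha]
      rfl
    have e2 : st φ Q (one X Q) = st φ₁ Q (one X Q) - Groth.L21.RR.cstAt k Q c • st φ₀ Q (one X Q) := by
      have h1 : st φ Q (one X Q) = st φ₁ Q (one X Q) - st (Groth.L21.RR.mulC k c ≫ φ₀) Q (one X Q) := by
        simp only [φ, st, Functor.map_sub]
        rfl
      rw [h1, Groth.L21.RR.st_comp, Groth.L21.RR.st_mulC, map_smul]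
    rw [e2, e1 φ₁ a₁ ha₁, e1 φ₀ a₀ ha₀, smul_smul, ← sub_smul, sub_mul, map_sub, hr, map_mul]
    congr 3
    exact (TopCat.Presheaf.germ_res_apply X.presheaf (homOfLE (le_top : W ≤ ⊤)) Q hQ _).symm
  have hbij := fun Q (hQ : Q ∈ W) => Groth.L21.RR.bijective_germ_frame (hε.mono hWW₀) hQ
  have hφ0 : φ ≠ 0 := fun h0' => by
    have h1 := hgerm (genericPoint X) hηW'
    rw [h0', st, Functor.map_zero] at h1
    have h2 := (hbij _ hηW').1 (a₁ := 0) (a₂ := X.presheaf.germ W _ hηW' ((r - algebraMap k Γ(X, W) c) * ro hWW₀ a₀))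
      ((zero_smul _ _).trans h1)
    have h3 : r - algebraMap k Γ(X, W) c = 0 := by
      rcases mul_eq_zero.1 (germ_injective_of_isIntegral X (genericPoint X) hηW' (h2.symm.trans (map_zero _).symm)) with h | h
      · exact h
      · exact absurd h hu.ne_zero
    refine hD ?_
    rw [← hrK, sub_eq_zero.1 h3, ← IsScalarTower.algebraMap_apply, Derivation.map_algebraMap]
  have hns : ¬ Function.Surjective (st φ P) := fun hsurj => by
    refine (Groth.L21.RR.surjective_st_iff_not_mem hL φ P).1 hsurj ?_
    rw [hgerm P hPW]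
    refine Submodule.smul_mem_smul ?_ Submodule.mem_top
    letI := X.presheaf.algebra_section_stalk (⟨P, hPW⟩ : W)
    haveI := hW.isLocalization_stalk ⟨P, hPW⟩
    have hprime : hW.primeIdealOf ⟨P, hPW⟩ = pc := hW.fromSpec.isOpenEmbedding.injective (hW.fromSpec_primeIdealOf _)
    refine (IsLocalization.AtPrime.to_map_mem_maximal_iff (X.presheaf.stalk P)
      (hW.primeIdealOf ⟨P, hPW⟩).asIdeal _).2 ?_
    rw [hprime]
    exact Ideal.mul_mem_right _ _ hrc
  exact ⟨P, hP, hsepP, finrank_le_deg k hd hL hP φ hφ0 hns, hfinP⟩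

end Groth.L21.SepSeries
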