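import Groth.Agent.L21.Sep.DiffKer
import Mathlib.RingTheory.TensorProduct.Basic
import Mathlib.RingTheory.TensorProduct.Free
import Mathlib.RingTheory.IntegralClosure.IntegrallyClosed
import Mathlib.FieldTheory.IsAlgClosed.AlgebraicClosure
import Mathlib.RingTheory.Flat.Basic

/-!
A complete linear series is separable: the algebraic core.
-/

set_option autoImplicit false
set_option backward.isDefEq.respectTransparency false
set_option linter.style.haveILetI false
universe u

open scoped TensorProduct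

noncomputable section

namespace Groth.L21.CompleteSeries

/-- A finite dimensional space closed under `p`-th roots contains only algebraic elements. -/
theorem mem_range_of_root_closed {L K : Type u} [Field L] [IsAlgClosed L] [CommRing K] [IsDomain K] [Algebra L K]
    (p : ℕ) [Fact p.Prime] [CharP K p] (S : Submodule L K) [FiniteDimensional L S]
    (hroot : ∀ x ∈ S, ∃ y ∈ S, y ^ p = x) {x : K} (hx : x ∈ S) : x ∈ (algebraMap L K).range := by
  classical
  choose r hrS hr using hroot
  let nxt : ↥S → ↥S := fun z => ⟨r z.1 z.2, hrS z.1 z.2⟩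
  let seq : ℕ → ↥S := fun n => nxt^[n] ⟨x, hx⟩
  have hseq : ∀ n, (Subtype.val (seq n)) ^ p ^ n = x := fun n => by
    induction n with
    | zero => simp [seq]
    | succ n ih =>
      have h1 : seq (n + 1) = nxt (seq n) := Function.iterate_succ_apply' nxt n ⟨x, hx⟩
      rw [h1, pow_succ', pow_mul]
      show (r (seq n).1 (seq n).2 ^ p) ^ p ^ n = x
      rw [hr, ih]
  let N := Module.finrank L S
  obtain ⟨c, hc, ⟨n₀, hn₀⟩⟩ : ∃ c : Fin (N + 1) → L, (∑ n, c n • seq n.val = 0) ∧ ∃ n, c n ≠ 0 := by
    refine Fintype.not_linearIndependent_iff.1 fun h => ?_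
    have h1 := h.fintype_card_le_finrank
    simp [N] at h1
  let P : Polynomial L := ∑ n : Fin (N + 1), Polynomial.monomial (p ^ (N - n.val)) (c n ^ p ^ N)
  have hP : P ≠ 0 := fun h0 => by
    have h1 := congrArg (fun q => Polynomial.coeff q (p ^ (N - n₀.val))) h0
    simp only [P, Polynomial.finsetSum_coeff, Polynomial.coeff_monomial, Polynomial.coeff_zero] at h1
    rw [Finset.sum_eq_single n₀ (fun n _ hn => if_neg fun he => hn (Fin.ext (by
      have := Nat.pow_right_injective (Fact.out : p.Prime).two_le he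
      omega))) (fun h => absurd (Finset.mem_univ _) h), if_pos rfl] at h1
    exact hn₀ (pow_eq_zero_iff (pow_pos (Fact.out : p.Prime).pos _).ne' |>.1 h1)
  have hPx : Polynomial.aeval x P = 0 := by
    have h1 : (∑ n, c n • (Subtype.val (seq n.val))) ^ p ^ N = 0 := by
      have := congrArg Subtype.val hc
      rw [Submodule.coe_sum] at this
      simp only [Submodule.coe_smul, Submodule.coe_zero] at this
      rw [this, zero_pow (pow_pos (Fact.out : p.Prime).pos _).ne']
    rw [sum_pow_char_pow] at h1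
    rw [map_sum, ← h1]
    refine Finset.sum_congr rfl fun n _ => ?_
    rw [Polynomial.aeval_monomial, smul_pow, Algebra.smul_def, map_pow]
    congr 1
    conv_lhs => rw [← hseq n.val]
    rw [← pow_mul, ← pow_add, Nat.add_sub_cancel' (Nat.lt_succ_iff.1 n.isLt)]
  have hint : IsIntegral L x := (show IsAlgebraic L x from ⟨P, hP, hPx⟩).isIntegral
  exact minpoly.mem_range_of_degree_eq_one L x
    (IsAlgClosed.degree_eq_one_of_irreducible L (minpoly.irreducible hint))

variable {k K : Type u} [Field k] [Field K] [Algebra k K] [Algebra.EssFiniteType k K]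
variable {ι : Type*} (A : ι → Subalgebra k K) (u : ι → K) (V : Submodule k K)

/-- Only constant ratios of a complete series have vanishing differential. -/
theorem exists_eq_smul_of_D_eq_zero [Nonempty ι] [FiniteDimensional k V] (hu : ∀ i, u i ≠ 0)
    (hfrac : ∀ i (x : K), ∃ b ∈ A i, b ≠ 0 ∧ b * x ∈ A i)
    (hdom : ∀ i, IsDomain (AlgebraicClosure k ⊗[k] A i))
    (hnorm : ∀ i, IsIntegrallyClosed (AlgebraicClosure k ⊗[k] A i))
    (hV : ∀ x, x ∈ V ↔ ∀ i, x * (u i)⁻¹ ∈ A i)
    {t : K} (ht : ∀ y, KaehlerDifferential.D k K y ∈ Submodule.span K {KaehlerDifferential.D k K t})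
    (hna : ¬ Algebra.IsAlgebraic k K) (hk : ∀ x : K, IsAlgebraic k x → x ∈ (algebraMap k K).range)
    {v : K} (hv : v ∈ V) (hv0 : v ≠ 0) (hD : ∀ w ∈ V, KaehlerDifferential.D k K (w * v⁻¹) = 0) {w : K} (hw : w ∈ V) :
    ∃ c : k, w = algebraMap k K c * v := by
  suffices h : w * v⁻¹ ∈ (algebraMap k K).range by
    obtain ⟨c, hc⟩ := h
    exact ⟨c, by rw [hc, inv_mul_cancel_right₀ hv0]⟩
  obtain ⟨p, hp⟩ := CharP.exists k
  rcases CharP.char_is_prime_or_zero k p with hp' | rfl
  swap
  · haveI : CharZero k := CharP.charP_to_charZero k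
    exact hk _ (DiffKer.isAlgebraic_of_D_eq_zero ht hna (hD w hw))
  haveI : Fact p.Prime := ⟨hp'⟩
  classical
  let L := AlgebraicClosure k
  let K' := L ⊗[k] K
  let inc : K →ₐ[k] K' := Algebra.TensorProduct.includeRight
  let m : ∀ i, L ⊗[k] A i →ₐ[L] K' := fun i => Algebra.TensorProduct.map (AlgHom.id L L) (A i).val
  have hm : ∀ i, Function.Injective (m i) := fun i =>
    Module.Flat.lTensor_preserves_injective_linearMap (M := L) (A i).val.toLinearMap Subtype.val_injective
  have hmem : ∀ i (a : K), a ∈ A i → inc a ∈ (m i).range := fun i a ha =>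
    ⟨(1 : L) ⊗ₜ (⟨a, ha⟩ : A i), rfl⟩
  have hden : ∀ i (z : K'), ∃ b ∈ A i, b ≠ 0 ∧ inc b * z ∈ (m i).range := fun i z => by
    induction z using TensorProduct.induction_on with
    | zero => exact ⟨1, one_mem _, one_ne_zero, by rw [mul_zero]; exact zero_mem _⟩
    | tmul a x =>
      obtain ⟨b, hb, hb0, hbx⟩ := hfrac i x
      exact ⟨b, hb, hb0, ⟨a ⊗ₜ (⟨b * x, hbx⟩ : A i), by
        show a ⊗ₜ[k] (b * x) = ((1 : L) ⊗ₜ[k] b) * (a ⊗ₜ[k] x)
        rw [Algebra.TensorProduct.tmul_mul_tmul, one_mul]⟩⟩
    | add z₁ z₂ h₁ h₂ =>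
      obtain ⟨b₁, hb₁, hb₁0, h₁⟩ := h₁
      obtain ⟨b₂, hb₂, hb₂0, h₂⟩ := h₂
      refine ⟨b₁ * b₂, mul_mem hb₁ hb₂, mul_ne_zero hb₁0 hb₂0, ?_⟩
      rw [map_mul, mul_add]
      refine add_mem ?_ ?_
      · rw [mul_comm (inc b₁), mul_assoc]; exact mul_mem (hmem i b₂ hb₂) h₁
      · rw [mul_assoc]; exact mul_mem (hmem i b₁ hb₁) h₂
  have hincu : ∀ b : K, b ≠ 0 → IsUnit (inc b) := fun b hb => (Ne.isUnit hb).map inc
  haveI : Nontrivial K' :=
    (Algebra.TensorProduct.includeRight_injective (R := k) (A := L) (B := K) (algebraMap k L).injective).nontrivial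
  haveI hK'dom : IsDomain K' := by
    haveI : NoZeroDivisors K' := ⟨fun {a b} hab => by
      obtain ⟨i⟩ := ‹Nonempty ι›
      obtain ⟨c, hc, hc0, ⟨a', ha'⟩⟩ := hden i a
      obtain ⟨d, hd, hd0, ⟨b', hb'⟩⟩ := hden i b
      change m i a' = _ at ha'
      change m i b' = _ at hb'
      haveI := hdom i
      have h1 : m i (a' * b') = 0 := by
        rw [map_mul, ha', hb', mul_mul_mul_comm, hab, mul_zero]
      rcases mul_eq_zero.1 ((map_eq_zero_iff _ (hm i)).1 h1) with h | h
      · exact Or.inl ((hincu c hc0).mul_right_eq_zero.1 (by rw [← ha', h, map_zero]))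
      · exact Or.inr ((hincu d hd0).mul_right_eq_zero.1 (by rw [← hb', h, map_zero]))⟩
    exact NoZeroDivisors.to_isDomain _
  have hfld : IsField K' := by
    let e := (Algebra.TensorProduct.comm k K L).toRingEquiv
    haveI : IsDomain (K ⊗[k] L) := e.toMulEquiv.isDomain
    exact e.symm.toMulEquiv.isField (isField_of_isIntegral_of_isField' (R := K) (Field.toIsField K))
  letI : Field K' := hfld.toField
  letI : Algebra K K' := Algebra.TensorProduct.rightAlgebra
  haveI : IsScalarTower k K K' := Algebra.TensorProduct.right_isScalarTower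
  haveI : CharP k p := hp
  haveI : CharP L p := charP_of_injective_algebraMap (algebraMap k L).injective p
  haveI : CharP K' p := charP_of_injective_algebraMap (algebraMap L K').injective p
  haveI : Algebra.EssFiniteType L K' := Algebra.EssFiniteType.baseChange k K L
  let dd : Derivation k K Ω[K'⁄L] := ((KaehlerDifferential.D L K').restrictScalars k).compAlgebraMap K
  have hdd : ∀ a, dd a = KaehlerDifferential.D L K' (inc a) := fun a => rfl
  have ht' : ∀ y, KaehlerDifferential.D L K' y ∈ Submodule.span K' {KaehlerDifferential.D L K' (inc t)} := fun y => by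
    induction y using TensorProduct.induction_on with
    | zero => rw [map_zero]; exact zero_mem _
    | tmul a x =>
      have h1 : (a ⊗ₜ[k] x : K') = a • inc x := by
        show a ⊗ₜ[k] x = a • ((1 : L) ⊗ₜ[k] x)
        rw [TensorProduct.smul_tmul', smul_eq_mul, mul_one]
      rw [h1, Derivation.map_smul]
      refine Submodule.smul_of_tower_mem _ a ?_
      obtain ⟨γ, hγ⟩ := Submodule.mem_span_singleton.1 (ht x)
      have h2 := congrArg dd.liftKaehlerDifferential hγ
      rw [map_smul, Derivation.liftKaehlerDifferential_comp_D, Derivation.liftKaehlerDifferential_comp_D, hdd, hdd,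
        ← IsScalarTower.algebraMap_smul K' γ] at h2
      exact h2 ▸ Submodule.smul_mem _ _ (Submodule.mem_span_singleton_self _)
    | add a b ha hb => rw [map_add]; exact add_mem ha hb
  -- the extended series
  let S : Submodule L K' := Submodule.span L ((fun x => inc (x * v⁻¹)) '' (V : Set K))
  haveI : FiniteDimensional L S := by
    obtain ⟨s, hs⟩ := Module.Finite.iff_fg.1 ‹FiniteDimensional k V›
    let f : K →ₗ[k] K' := inc.toLinearMap ∘ₗ LinearMap.mulRight k v⁻¹
    haveI := Module.Finite.span_of_finite L (A := f '' ↑s) (s.finite_toSet.image f)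
    refine Submodule.finiteDimensional_of_le (S₂ := Submodule.span L (f '' ↑s)) ?_
    rw [Submodule.span_le]
    rintro _ ⟨x, hx, rfl⟩
    rw [← hs] at hx
    have hfx : f x ∈ Submodule.map f (Submodule.span k ↑s) := Submodule.mem_map_of_mem hx
    rw [Submodule.map_span] at hfx
    exact Submodule.span_subset_span k L _ hfx
  have hSD : ∀ x ∈ S, KaehlerDifferential.D L K' x = 0 := fun x hx => by
    induction hx using Submodule.span_induction with
    | mem x hx =>
      obtain ⟨y, hy, rfl⟩ := hx
      have h2 := congrArg dd.liftKaehlerDifferential (hD y hy)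
      rwa [map_zero, Derivation.liftKaehlerDifferential_comp_D, hdd] at h2
    | zero => exact map_zero _
    | add a b _ _ ha hb => rw [map_add, ha, hb, add_zero]
    | smul a x _ hx => rw [Derivation.map_smul, hx, smul_zero]
  have hSA : ∀ x ∈ S, ∀ i, x * inc (v * (u i)⁻¹) ∈ (m i).range := fun x hx i => by
    induction hx using Submodule.span_induction with
    | mem x hx =>
      obtain ⟨y, hy, rfl⟩ := hx
      rw [← map_mul, show y * v⁻¹ * (v * (u i)⁻¹) = y * (u i)⁻¹ by field_simp]
      exact hmem i _ ((hV y).1 hy i)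
    | zero => rw [zero_mul]; exact zero_mem _
    | add a b _ _ ha hb => rw [add_mul]; exact add_mem ha hb
    | smul a x _ hx => rw [smul_mul_assoc]; exact Subalgebra.smul_mem _ hx a
  have hroot : ∀ x ∈ S, ∃ y ∈ S, y ^ p = x := fun x hx => by
    obtain ⟨y, hy⟩ := DiffKer.exists_pow_eq_of_D_eq_zero ht' p (hSD x hx)
    refine ⟨y, ?_, hy⟩
    let z := y * inc v
    have hz : ∀ i, z * inc (u i)⁻¹ ∈ (m i).range := fun i => by
      haveI := hdom i
      haveI := hnorm i
      have h1 : (z * inc (u i)⁻¹) ^ p ∈ (m i).range := by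
        rw [mul_assoc, ← map_mul, mul_pow, hy, ← Nat.sub_add_cancel (Fact.out : p.Prime).one_le, pow_succ',
          ← mul_assoc]
        exact mul_mem (hSA x hx i) (pow_mem (hmem i _ ((hV v).1 hv i)) _)
      obtain ⟨b, hb, hb0, ⟨a', ha'⟩⟩ := hden i (z * inc (u i)⁻¹)
      obtain ⟨c', hc'⟩ := h1
      change m i a' = _ at ha'
      change m i c' = _ at hc'
      let b' : L ⊗[k] A i := (1 : L) ⊗ₜ (⟨b, hb⟩ : A i)
      have hb' : m i b' = inc b := rfl
      have h2 : b' ^ p ∣ a' ^ p := ⟨c', hm i (by rw [map_mul, map_pow, map_pow, hb', ha', hc', mul_pow])⟩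
      obtain ⟨q, hq⟩ := (IsIntegrallyClosed.pow_dvd_pow_iff (Fact.out : p.Prime).ne_zero).1 h2
      refine ⟨q, (hincu b hb0).mul_left_cancel ?_⟩
      rw [← ha', hq, map_mul, hb']
      rfl
    let bL := Module.Basis.ofVectorSpace k L
    let E : K' ≃ₗ[k] (Module.Basis.ofVectorSpaceIndex k L →₀ K) := TensorProduct.equivFinsuppOfBasisLeft bL
    have hEmul : ∀ (z' : K') (c : K) (l), E (z' * inc c) l = E z' l * c := fun z' c l => by
      induction z' using TensorProduct.induction_on with
      | zero => simp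
      | tmul a x =>
        show E ((a ⊗ₜ[k] x) * ((1 : L) ⊗ₜ[k] c)) l = E (a ⊗ₜ[k] x) l * c
        rw [Algebra.TensorProduct.tmul_mul_tmul, mul_one]
        exact (TensorProduct.equivFinsuppOfBasisLeft_apply_tmul_apply bL a (x * c) l).trans
          ((smul_mul_assoc (bL.repr a l) x c).symm.trans (congrArg (· * c)
            (TensorProduct.equivFinsuppOfBasisLeft_apply_tmul_apply bL a x l).symm))
      | add a b ha hb => rw [add_mul, map_add, map_add, Finsupp.add_apply, Finsupp.add_apply, ha, hb, add_mul]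
    have hEA : ∀ i (q : L ⊗[k] A i) l, E (m i q) l ∈ A i := fun i q l => by
      induction q using TensorProduct.induction_on with
      | zero => simp
      | tmul a x =>
        have h1 : E (m i (a ⊗ₜ[k] x)) l = bL.repr a l • (x : K) :=
          TensorProduct.equivFinsuppOfBasisLeft_apply_tmul_apply bL a (x : K) l
        rw [h1]
        exact Subalgebra.smul_mem _ x.2 _
      | add a b ha hb => rw [map_add, map_add, Finsupp.add_apply]; exact add_mem ha hb
    have hcoord : ∀ l, E z l ∈ V := fun l => (hV _).2 fun i => by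
      obtain ⟨q, hq⟩ := hz i
      rw [← hEmul, ← hq]
      exact hEA i q l
    have hzsum : z = (E z).sum fun l c => bL l ⊗ₜ[k] c := by
      conv_lhs => rw [← E.symm_apply_apply z]
      exact TensorProduct.equivFinsuppOfBasisLeft_symm_apply bL _
    have hy2 : y = z * inc v⁻¹ := by
      rw [mul_assoc, ← map_mul, mul_inv_cancel₀ hv0, map_one, mul_one]
    rw [hy2, hzsum, Finsupp.sum, Finset.sum_mul]
    refine Submodule.sum_mem _ fun l _ => ?_
    rw [show (bL l ⊗ₜ[k] E z l : K') * inc v⁻¹ = bL l • inc (E z l * v⁻¹) by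
      show (bL l ⊗ₜ[k] E z l) * ((1 : L) ⊗ₜ[k] v⁻¹) = bL l • ((1 : L) ⊗ₜ[k] (E z l * v⁻¹))
      rw [Algebra.TensorProduct.tmul_mul_tmul, TensorProduct.smul_tmul', smul_eq_mul]]
    exact Submodule.smul_mem _ _ (Submodule.subset_span ⟨_, hcoord l, rfl⟩)
  obtain ⟨lam, hlam⟩ := mem_range_of_root_closed p S hroot (Submodule.subset_span ⟨w, hw, rfl⟩)
  obtain ⟨φ, hφ⟩ := (Algebra.linearMap k L).exists_leftInverse_of_injective
    (LinearMap.ker_eq_bot.2 (algebraMap k L).injective)
  have h1 := congrArg (TensorProduct.lift ((LinearMap.lsmul k K).comp φ)) hlam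
  have hφ1 : φ 1 = 1 := by simpa using LinearMap.congr_fun hφ 1
  change TensorProduct.lift ((LinearMap.lsmul k K).comp φ) (lam ⊗ₜ[k] (1 : K)) =
    TensorProduct.lift ((LinearMap.lsmul k K).comp φ) ((1 : L) ⊗ₜ[k] (w * v⁻¹)) at h1
  rw [TensorProduct.lift.tmul, TensorProduct.lift.tmul, LinearMap.comp_apply, LinearMap.comp_apply,
    LinearMap.lsmul_apply, LinearMap.lsmul_apply, hφ1, one_smul] at h1
  exact ⟨φ lam, by rw [← h1, Algebra.algebraMap_eq_smul_one]⟩

end Groth.L21.CompleteSeries
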