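import Mathlib.RingTheory.Kaehler.Basic
import Mathlib.RingTheory.Unramified.Field
import Mathlib.RingTheory.EssentialFiniteness
import Mathlib.FieldTheory.PurelyInseparable.Basic
import Mathlib.FieldTheory.KummerPolynomial
import Mathlib.FieldTheory.Perfect
import Mathlib.FieldTheory.IsPerfectClosure
import Mathlib.FieldTheory.AlgebraicClosure
import Mathlib.RingTheory.AlgebraicIndependent.TranscendenceBasis
import Mathlib.RingTheory.AlgebraicIndependent.Transcendental
import Mathlib.RingTheory.AlgebraicIndependent.AlgebraicClosure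

/-!
The kernel of the differential on a function field of one variable.
-/

set_option autoImplicit false
set_option linter.style.haveILetI false
universe u

open IntermediateField

noncomputable section

namespace Groth.L21.DiffKer

variable {k K : Type u} [Field k] [Field K] [Algebra k K]

/-- An extension over which all differentials vanish is formally unramified. -/
theorem subsingleton_of_D_eq_zero {F : Type*} [Field F] [Algebra F K]
    (h : ∀ y : K, KaehlerDifferential.D F K y = 0) : Subsingleton Ω[K⁄F] := by
  refine ⟨fun a b => ?_⟩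
  have hbot : (⊤ : Submodule K Ω[K⁄F]) ≤ ⊥ := by
    rw [← KaehlerDifferential.span_range_derivation, Submodule.span_le]
    rintro _ ⟨x, rfl⟩
    exact (Submodule.mem_bot K).2 (h x)
  exact ((Submodule.mem_bot K).1 (hbot (x := a) trivial)).trans
    ((Submodule.mem_bot K).1 (hbot (x := b) trivial)).symm

variable [Algebra.EssFiniteType k K] {t : K}
  (ht : ∀ y, KaehlerDifferential.D k K y ∈ Submodule.span K {KaehlerDifferential.D k K t})

include ht in
/-- An extension inside `K` containing the spanning differential has separable `K`. -/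
theorem isSeparable_of_mem {F : Type u} [Field F] [Algebra k F] [Algebra F K] [IsScalarTower k F K]
    (htF : t ∈ (algebraMap F K).range) : Algebra.IsSeparable F K := by
  haveI : Algebra.EssFiniteType F K := Algebra.EssFiniteType.of_comp k F K
  haveI : Algebra.FormallyUnramified F K := by
    refine ⟨subsingleton_of_D_eq_zero fun y => ?_⟩
    obtain ⟨c, hc⟩ := Submodule.mem_span_singleton.1 (ht y)
    have h1 := congrArg (KaehlerDifferential.map k F K K) hc
    rw [map_smul, KaehlerDifferential.map_D, KaehlerDifferential.map_D] at h1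
    obtain ⟨s, hs⟩ := htF
    have h2 : KaehlerDifferential.D F K t = 0 := by rw [← hs, Derivation.map_algebraMap]
    rw [show (algebraMap K K) t = t from rfl, show (algebraMap K K) y = y from rfl, h2, smul_zero] at h1
    exact h1.symm
  exact Algebra.FormallyUnramified.isSeparable F K

include ht in
/-- In characteristic zero only constants have vanishing differential. -/
theorem isAlgebraic_of_D_eq_zero [CharZero k] (ht' : ¬ Algebra.IsAlgebraic k K) {x : K}
    (hx : KaehlerDifferential.D k K x = 0) : IsAlgebraic k x := by
  by_contra htr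
  haveI : CharZero K := charZero_of_injective_algebraMap (algebraMap k K).injective
  haveI : Algebra.IsSeparable k⟮t⟯ K :=
    isSeparable_of_mem ht ⟨⟨t, mem_adjoin_simple_self k t⟩, rfl⟩
  haveI : Algebra.IsAlgebraic (Algebra.adjoin k ({t} : Set K)) K :=
    IntermediateField.isAlgebraic_adjoin_iff_top.1 inferInstance
  have hle : Algebra.trdeg k K ≤ Cardinal.mk (PUnit.{u+1}) := by
    refine (Algebra.IsAlgebraic.trdeg_le_cardinalMk k ({t} : Set K)).trans ?_
    simp
  have hind : AlgebraicIndependent k (fun _ : PUnit.{u+1} => x) :=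
    algebraicIndependent_unique_type_iff.2 htr
  haveI : Algebra.IsAlgebraic (Algebra.adjoin k (Set.range fun _ : PUnit.{u+1} => x)) K :=
    (hind.isTranscendenceBasis_of_trdeg_le_of_finite hle).isAlgebraic
  haveI : Algebra.IsAlgebraic k⟮x⟯ K := by
    have h1 : Set.range (fun _ : PUnit.{u+1} => x) = {x} := Set.range_const
    have h2 : Algebra.IsAlgebraic (Algebra.adjoin k (Set.range fun _ : PUnit.{u+1} => x)) K := inferInstance
    rw [h1] at h2
    exact IntermediateField.isAlgebraic_adjoin_iff_top.2 h2
  -- all differentials vanish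
  let C : IntermediateField k K :=
    { carrier := {y | KaehlerDifferential.D k K y = 0}
      mul_mem' := fun {a b} ha hb => by
        simp only [Set.mem_ofPred_eq] at ha hb ⊢
        rw [Derivation.leibniz, ha, hb, smul_zero, smul_zero, add_zero]
      add_mem' := fun {a b} ha hb => by
        simp only [Set.mem_ofPred_eq] at ha hb ⊢
        rw [map_add, ha, hb, add_zero]
      algebraMap_mem' := fun c => Derivation.map_algebraMap _ _
      inv_mem' := fun a ha => by
        simp only [Set.mem_ofPred_eq] at ha ⊢
        rw [Derivation.leibniz_inv, ha, smul_zero] }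
  have hle' : k⟮x⟯ ≤ C := adjoin_simple_le_iff.2 hx
  haveI : CharZero k⟮x⟯ := charZero_of_injective_algebraMap (algebraMap k k⟮x⟯).injective
  haveI : Algebra.IsSeparable k⟮x⟯ K := Algebra.IsAlgebraic.isSeparable_of_perfectField
  haveI : Algebra.EssFiniteType k⟮x⟯ K := Algebra.EssFiniteType.of_comp k k⟮x⟯ K
  haveI : Algebra.FormallyUnramified k⟮x⟯ K := Algebra.FormallyUnramified.of_isSeparable _ _
  have hall : ∀ y : K, KaehlerDifferential.D k K y = 0 := fun y => by
    obtain ⟨w, hw⟩ := (KaehlerDifferential.exact_mapBaseChange_map k k⟮x⟯ K (KaehlerDifferential.D k K y)).1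
      (Subsingleton.elim _ _)
    rw [← hw]
    clear hw
    induction w using TensorProduct.induction_on with
    | zero => exact map_zero _
    | tmul a ω =>
      rw [KaehlerDifferential.mapBaseChange_tmul]
      have h3 : KaehlerDifferential.map k k k⟮x⟯ K ω = 0 := by
        have hω : ω ∈ Submodule.span k⟮x⟯ (Set.range (KaehlerDifferential.D k k⟮x⟯)) := by
          rw [KaehlerDifferential.span_range_derivation]; exact Submodule.mem_top
        refine Submodule.span_induction ?_ (map_zero _) (fun _ _ _ _ h1 h2 => by rw [map_add, h1, h2, add_zero])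
          (fun c _ _ h1 => by rw [map_smul, h1, smul_zero]) hω
        rintro _ ⟨z, rfl⟩
        rw [KaehlerDifferential.map_D]
        exact hle' z.2
      rw [h3, smul_zero]
    | add a b ha hb => rw [map_add, ha, hb, add_zero]
  haveI : Algebra.FormallyUnramified k K := ⟨subsingleton_of_D_eq_zero hall⟩
  haveI := Algebra.FormallyUnramified.isSeparable k K
  exact ht' inferInstance

include ht in
/-- Over a perfect field of characteristic `p`, the kernel of the differential consists of `p`-th powers. -/
theorem exists_pow_eq_of_D_eq_zero [PerfectField k] (p : ℕ) [Fact p.Prime] [CharP K p] {x : K}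
    (hx : KaehlerDifferential.D k K x = 0) : ∃ y : K, y ^ p = x := by
  haveI : CharP k p := (RingHom.charP_iff (algebraMap k K) (algebraMap k K).injective p).2 inferInstance
  haveI : ExpChar k p := ExpChar.prime Fact.out
  haveI : ExpChar K p := ExpChar.prime Fact.out
  haveI : PerfectRing k p := PerfectField.toPerfectRing p
  let F₀ : IntermediateField k K :=
    Subfield.toIntermediateField (frobenius K p).fieldRange fun c => by
      obtain ⟨d, rfl⟩ := surjective_frobenius k p c
      exact ⟨algebraMap k K d, by rw [frobenius_def, frobenius_def, map_pow]⟩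
  haveI : IsPurelyInseparable F₀ K := by
    haveI : ExpChar F₀ p := expChar_of_injective_algebraMap (algebraMap k F₀).injective p
    rw [isPurelyInseparable_iff_pow_mem F₀ p]
    exact fun y => ⟨1, ⟨y ^ p, ⟨y, rfl⟩⟩, (pow_one p).symm ▸ rfl⟩
  -- `K` is generated over `p`-th powers by `t`
  have htop : F₀⟮t⟯ = ⊤ := by
    haveI : IsScalarTower k F₀⟮t⟯ K := IsScalarTower.of_algebraMap_eq fun c => rfl
    haveI : Algebra.IsSeparable F₀⟮t⟯ K := isSeparable_of_mem ht ⟨⟨t, mem_adjoin_simple_self F₀ t⟩, rfl⟩
    haveI : IsPurelyInseparable F₀⟮t⟯ K := IsPurelyInseparable.tower_top F₀ F₀⟮t⟯ K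
    refine eq_top_iff.2 fun y _ => ?_
    obtain ⟨z, rfl⟩ := IsPurelyInseparable.surjective_algebraMap_of_isSeparable F₀⟮t⟯ K y
    exact z.2
  have hdeg : ∀ z : K, z ∉ F₀ → Module.finrank F₀ F₀⟮z⟯ = p := fun z hz => by
    have hirr : Irreducible (Polynomial.X ^ p - Polynomial.C (⟨z ^ p, ⟨z, rfl⟩⟩ : F₀)) := by
      refine X_pow_sub_C_irreducible_of_prime Fact.out fun b hb => hz ?_
      have h1 : (b : K) ^ p = z ^ p := congrArg Subtype.val hb
      rw [← frobenius_inj K p h1]
      exact b.2
    have hint : IsIntegral F₀ z := IsIntegral.of_pow (Fact.out : p.Prime).pos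
      ⟨_, Polynomial.monic_X_sub_C (⟨z ^ p, ⟨z, rfl⟩⟩ : F₀), by simp⟩
    rw [IntermediateField.adjoin.finrank hint, ← minpoly.eq_of_irreducible_of_monic hirr
      (by simp) (Polynomial.monic_X_pow_sub_C _ (Fact.out : p.Prime).ne_zero),
      Polynomial.natDegree_X_pow_sub_C]
  by_cases hxF : x ∈ F₀
  · obtain ⟨y, hy⟩ := hxF
    exact ⟨y, hy⟩
  by_cases htF : t ∈ F₀
  · have h1 : x ∈ F₀⟮t⟯ := by rw [htop]; trivial
    have hbot : F₀⟮t⟯ = ⊥ := IntermediateField.adjoin_simple_eq_bot_iff.2 (IntermediateField.mem_bot.2 ⟨⟨t, htF⟩, rfl⟩)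
    rw [hbot] at h1
    obtain ⟨z, hz⟩ := IntermediateField.mem_bot.1 h1
    exact absurd (hz ▸ z.2) hxF
  -- `x` generates too, so all differentials vanish
  let C : IntermediateField F₀ K :=
    { carrier := {y | KaehlerDifferential.D k K y = 0}
      mul_mem' := fun {a b} ha hb => by
        simp only [Set.mem_ofPred_eq] at ha hb ⊢
        rw [Derivation.leibniz, ha, hb, smul_zero, smul_zero, add_zero]
      add_mem' := fun {a b} ha hb => by
        simp only [Set.mem_ofPred_eq] at ha hb ⊢
        rw [map_add, ha, hb, add_zero]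
      algebraMap_mem' := fun c => by
        obtain ⟨d, hd⟩ := c.2
        show KaehlerDifferential.D k K (c : K) = 0
        rw [← hd, frobenius_def, Derivation.leibniz_pow, ← Nat.cast_smul_eq_nsmul K, CharP.cast_eq_zero, zero_smul]
      inv_mem' := fun a ha => by
        simp only [Set.mem_ofPred_eq] at ha ⊢
        rw [Derivation.leibniz_inv, ha, smul_zero] }
  haveI : FiniteDimensional F₀ K := by
    haveI : FiniteDimensional F₀ F₀⟮t⟯ := Module.finite_of_finrank_pos (by rw [hdeg t htF]; exact (Fact.out : p.Prime).pos)
    exact Module.Finite.equiv ((IntermediateField.equivOfEq htop).trans IntermediateField.topEquiv).toLinearEquiv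
  have hxtop : F₀⟮x⟯ = ⊤ := by
    refine IntermediateField.eq_of_le_of_finrank_eq le_top ?_
    rw [hdeg x hxF, ← htop, hdeg t htF]
  have hall : ∀ y : K, KaehlerDifferential.D k K y = 0 := fun y =>
    (show F₀⟮x⟯ ≤ C from adjoin_simple_le_iff.2 hx) (by rw [hxtop]; trivial)
  haveI : Algebra.FormallyUnramified k K := ⟨subsingleton_of_D_eq_zero hall⟩
  haveI := Algebra.FormallyUnramified.isSeparable k K
  haveI : PerfectField K := Algebra.IsAlgebraic.perfectField (K := k) (L := K)
  haveI : PerfectRing K p := PerfectField.toPerfectRing p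
  exact surjective_frobenius K p x

end Groth.L21.DiffKer
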